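import Cfsg.Agent.Lib.Helper56.HePerm.Data

set_option autoImplicit false
set_option linter.unusedVariables false

namespace Cfsg.Agent.Lib.Helper56.HePerm

open Cfsg.Spor.He (Gen)
open Cfsg.Agent.Lib.Helper28.TC Cfsg.Agent.Lib.Helper28.He2058

noncomputable section

theorem orbP1_blk0 : allRange (guard nn orbP1) 10 (0 * 2 ^ 10) = true := by decide +kernel
theorem orbP1_blk1 : allRange (guard nn orbP1) 10 (1 * 2 ^ 10) = true := by decide +kernel
theorem orbP1_blk2 : allRange (guard nn orbP1) 10 (2 * 2 ^ 10) = true := by decide +kernel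
theorem orbP1_all : ∀ i, i < nn → orbP1 i = true := by
  refine all_of_blocks nn orbP1 10 3 (by decide) ?_
  intro k hk
  interval_cases k
  · exact orbP1_blk0
  · exact orbP1_blk1
  · exact orbP1_blk2
theorem orb1_count : countRange (fun i => band (nlt i nn) (OC1.inO i)) 12 0 = 1360 := by decide +kernel
theorem orb1_root : OC1.inO 1 = true := by decide +kernel
theorem fix1 : allList (fun w => allList (fun b => Nat.beq (act tf w b) b) [0]) words1 = true := by decide +kernel

end

end Cfsg.Agent.Lib.Helper56.HePerm
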