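import Cfsg.Agent.Lib.Helper56.HePerm.ChkO0
import Cfsg.Agent.Lib.Helper56.HePerm.ChkO1
import Cfsg.Agent.Lib.Helper56.HePerm.ChkO2
import Cfsg.Agent.Lib.Helper56.HePerm.ChkO3
import Cfsg.Agent.Lib.Helper56.HePerm.ChkS
import Cfsg.Agent.Lib.Helper56.HePerm.ChkE0
import Cfsg.Agent.Lib.Helper56.HePerm.ChkE1
import Cfsg.Agent.Lib.Helper56.HePerm.ChkE2
import Cfsg.Agent.Lib.Helper56.HePerm.ChkE3
import Cfsg.Agent.Lib.Helper56.HePerm.ChkE4
import Cfsg.Agent.Lib.Helper56.HePerm.ChkE5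
import Cfsg.Agent.Lib.Helper56.HePerm.ChkE6
import Cfsg.Agent.Lib.Helper56.HePerm.ChkE7
import Cfsg.Agent.Lib.Helper56.HePerm.ChkE8

set_option autoImplicit false
set_option linter.unusedVariables false

namespace Cfsg.Agent.Lib.Helper56.HePerm

open Cfsg.Spor.He (Gen)
open Cfsg.Agent.Lib.Helper28.TC Cfsg.Agent.Lib.Helper28.He2058

noncomputable section

theorem ordP_all : ∀ i, i < nn → ordP i = true := by
  refine all_of_blocks nn ordP 8 9 (by decide) ?_
  intro k hk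
  interval_cases k
  · exact ordP_blk0
  · exact ordP_blk1
  · exact ordP_blk2
  · exact ordP_blk3
  · exact ordP_blk4
  · exact ordP_blk5
  · exact ordP_blk6
  · exact ordP_blk7
  · exact ordP_blk8

end

end Cfsg.Agent.Lib.Helper56.HePerm
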